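import Groth.Prelude.Def_EGA41
import Groth.Agent.Lib.VarDim.Alg
import Groth.Agent.Lib.AdicSmooth.FieldFS
import Mathlib.RingTheory.Etale.Kaehler
import Mathlib.RingTheory.Kaehler.Polynomial
import Mathlib.RingTheory.RegularLocalRing.Polynomial
import Mathlib.RingTheory.Ideal.Cotangent
import Mathlib.RingTheory.EssentialFiniteness
import Mathlib.RingTheory.AlgebraicIndependent.TranscendenceBasis

/-!
Cartier's equality for finitely generated field extensions.
-/

set_option autoImplicit false
set_option linter.style.haveILetI false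

universe u

open TensorProduct KaehlerDifferential

namespace Groth.Agent.CartierEq3

/-- A finitely generated field extension is a residue field of a polynomial ring. -/
theorem exists_aeval_fractions (K L : Type u) [Field K] [Field L] [Algebra K L] [Algebra.EssFiniteType K L] :
    ∃ (n : ℕ) (φ : MvPolynomial (Fin n) K →ₐ[K] L), ∀ z : L, ∃ a b, φ b ≠ 0 ∧ z * φ b = φ a := by
  classical
  obtain ⟨σ, hσ⟩ := (Algebra.essFiniteType_iff K L).1 ‹_›
  refine ⟨σ.card, MvPolynomial.aeval fun i => (σ.equivFin.symm i : L), fun z => ?_⟩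
  obtain ⟨t, ht, htu, hzt⟩ := hσ z
  have hr : Algebra.adjoin K (σ : Set L) =
      (MvPolynomial.aeval fun i => (σ.equivFin.symm i : L) : MvPolynomial (Fin σ.card) K →ₐ[K] L).range := by
    rw [← Algebra.adjoin_range_eq_range_aeval]
    congr 1
    ext x
    exact ⟨fun hx => ⟨σ.equivFin ⟨x, hx⟩, by simp⟩, by rintro ⟨i, rfl⟩; exact (σ.equivFin.symm i).2⟩
  rw [hr] at ht hzt
  obtain ⟨b, rfl⟩ := ht
  obtain ⟨a, ha⟩ := hzt
  exact ⟨a, b, htu.ne_zero, ha.symm⟩

/-- Cartier's equality in terms of the first cotangent homology. -/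
theorem h1_kaehler (K L : Type u) [Field K] [Field L] [Algebra K L] [Algebra.EssFiniteType K L] :
    Module.Finite L Ω[L⁄K] ∧ Module.Finite L (Algebra.H1Cotangent K L) ∧
      (Module.finrank L Ω[L⁄K] : ℤ) - Module.finrank L (Algebra.H1Cotangent K L) =
        (Cardinal.toNat (Algebra.trdeg K L) : ℤ) := by
  classical
  obtain ⟨n, φ, hφ⟩ := exists_aeval_fractions K L
  let q : Ideal (MvPolynomial (Fin n) K) := RingHom.ker φ.toRingHom
  haveI : q.IsPrime := RingHom.ker_isPrime _
  let R := Localization.AtPrime q
  letI : Algebra (MvPolynomial (Fin n) K) L := φ.toRingHom.toAlgebra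
  haveI : IsScalarTower K (MvPolynomial (Fin n) K) L := IsScalarTower.of_algebraMap_eq fun a => (φ.commutes a).symm
  have hunit : ∀ s : q.primeCompl, IsUnit (φ s) := fun s => (show φ s ≠ 0 from s.2).isUnit
  let ψ : R →ₐ[K] L := IsLocalization.liftAlgHom (M := q.primeCompl) (f := φ) hunit
  have hψ : ∀ a, ψ (algebraMap _ R a) = φ a := fun a => IsLocalization.lift_eq _ a
  have hψs : Function.Surjective ψ := fun z => by
    obtain ⟨a, b, hb, hab⟩ := hφ z
    refine ⟨IsLocalization.mk' R a (⟨b, (show b ∈ q.primeCompl from hb)⟩ : q.primeCompl), mul_right_cancel₀ hb ?_⟩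
    rw [hab, ← hψ b, ← map_mul]
    exact (congrArg ψ (IsLocalization.mk'_spec R a (⟨b, (show b ∈ q.primeCompl from hb)⟩ : q.primeCompl))).trans (hψ a)
  letI : Algebra R L := ψ.toRingHom.toAlgebra
  haveI : IsScalarTower K R L := IsScalarTower.of_algebraMap_eq fun a => (ψ.commutes a).symm
  haveI : IsScalarTower (MvPolynomial (Fin n) K) R L := IsScalarTower.of_algebraMap_eq fun a => (hψ a).symm
  haveI : Algebra.FormallyEtale (MvPolynomial (Fin n) K) R := Algebra.FormallyEtale.of_isLocalization q.primeCompl
  haveI : Algebra.FormallySmooth K R := Algebra.FormallySmooth.comp K (MvPolynomial (Fin n) K) R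
  haveI : IsRegularLocalRing R := IsRegularRing.isRegularLocalRing_localization q
  let P : Algebra.Extension.{u} K L :=
    { Ring := R, σ := Function.surjInv hψs, algebraMap_σ := Function.surjInv_eq hψs }
  haveI : Algebra.FormallySmooth K P.Ring := ‹Algebra.FormallySmooth K R›
  have hker : P.ker = IsLocalRing.maximalIdeal R :=
    IsLocalRing.eq_maximalIdeal (RingHom.ker_isMaximal_of_surjective ψ.toRingHom hψs)
  -- the cotangent module
  let e : IsLocalRing.ResidueField R ≃+* L :=
    (Ideal.quotEquivOfEq (hker.symm : IsLocalRing.maximalIdeal R = RingHom.ker ψ.toRingHom)).trans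
      (RingHom.quotientKerEquivOfSurjective hψs)
  let j : IsLocalRing.CotangentSpace R ≃ₗ[R] (P.ker).Cotangent :=
    Submodule.Quotient.equiv _ _ (LinearEquiv.ofEq (IsLocalRing.maximalIdeal R) P.ker hker.symm) (by
      rw [Submodule.map_smul'', Submodule.map_top, LinearMap.range_eq_top.mpr (LinearEquiv.surjective _)]
      exact congrArg (fun I : Ideal R => I • (⊤ : Submodule R P.ker)) hker.symm)
  have hrk : Module.rank (IsLocalRing.ResidueField R) (IsLocalRing.CotangentSpace R) = Module.rank L P.Cotangent := by
    refine rank_eq_of_equiv_equiv e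
      (j.toAddEquiv.trans { toFun := Algebra.Extension.Cotangent.of, invFun := fun x => x.val,
                            left_inv := fun _ => rfl, right_inv := fun _ => rfl, map_add' := fun _ _ => rfl })
      e.bijective fun r m => ?_
    obtain ⟨r, rfl⟩ := IsLocalRing.residue_surjective r
    refine Algebra.Extension.Cotangent.ext ?_
    show j (r • m) = (algebraMap R L r • (Algebra.Extension.Cotangent.of (P := P) (j m))).val
    rw [map_smul, algebraMap_smul]
    exact (Algebra.Extension.Cotangent.val_smul' (P := P) r (Algebra.Extension.Cotangent.of (P := P) (j m))).symm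
  haveI hcotfin : Module.Finite L P.Cotangent := by
    rw [← Module.rank_lt_aleph0_iff, ← hrk]
    exact Module.rank_lt_aleph0_iff.mpr inferInstance
  -- the dimension of the local ring
  haveI : Algebra.FiniteType K (MvPolynomial (Fin n) K ⧸ q) :=
    Algebra.FiniteType.of_surjective (Ideal.Quotient.mkₐ K q) (Ideal.Quotient.mkₐ_surjective K q)
  haveI : IsFractionRing (MvPolynomial (Fin n) K ⧸ q) q.ResidueField := inferInstance
  have htr : Algebra.trdeg K L = (VarDim.tdeg K (MvPolynomial (Fin n) K ⧸ q) : Cardinal) := by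
    rw [← VarDim.trdeg_eq_tdeg K (MvPolynomial (Fin n) K ⧸ q)]
    let χ : (MvPolynomial (Fin n) K ⧸ q) →ₐ[K] L := Ideal.Quotient.liftₐ q φ fun a ha => ha
    letI : Algebra (MvPolynomial (Fin n) K ⧸ q) L := χ.toRingHom.toAlgebra
    haveI : IsScalarTower K (MvPolynomial (Fin n) K ⧸ q) L := IsScalarTower.of_algebraMap_eq fun a => (χ.commutes a).symm
    have hinj : Function.Injective χ := by
      refine (injective_iff_map_eq_zero χ).mpr fun y hy => ?_
      obtain ⟨a, rfl⟩ := Ideal.Quotient.mk_surjective y
      exact Ideal.Quotient.eq_zero_iff_mem.mpr hy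
    haveI : FaithfulSMul (MvPolynomial (Fin n) K ⧸ q) L := (faithfulSMul_iff_algebraMap_injective _ _).mpr hinj
    haveI : IsFractionRing (MvPolynomial (Fin n) K ⧸ q) L :=
      IsFractionRing.of_field _ _ fun z => by
        obtain ⟨a, b, hb, hab⟩ := hφ z
        exact ⟨Ideal.Quotient.mk q a, Ideal.Quotient.mk q b, (eq_div_iff hb).mpr hab⟩
    haveI := IsLocalization.isAlgebraic L (nonZeroDivisors (MvPolynomial (Fin n) K ⧸ q))
    rw [← trdeg_add_eq K (MvPolynomial (Fin n) K ⧸ q) (A := L),
      trdeg_eq_zero (R := MvPolynomial (Fin n) K ⧸ q) (A := L), add_zero]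
  have hdim : (Module.finrank L P.Cotangent : ℕ∞) + (Cardinal.toNat (Algebra.trdeg K L) : ℕ∞) = n := by
    have h1 := (IsRegularLocalRing.iff_finrank_cotangentSpace R).1 ‹_›
    rw [IsLocalization.AtPrime.ringKrullDim_eq_height q R] at h1
    have h1' : ((Module.finrank (IsLocalRing.ResidueField R) (IsLocalRing.CotangentSpace R) : ℕ) : ℕ∞) = q.height :=
      WithBot.coe_injective h1
    have h2 := VarDim.height_add_coheight_nat K (MvPolynomial (Fin n) K) ⟨q, inferInstance⟩
    rw [VarDim.coheight_eq_tdeg K (MvPolynomial (Fin n) K) ⟨q, inferInstance⟩] at h2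
    have h3 : VarDim.tdeg K (MvPolynomial (Fin n) K) = n := by
      rw [VarDim.tdeg, VarDim.trdeg_mvPolynomial, Cardinal.toNat_natCast]
    rw [h3] at h2
    rw [show Module.finrank L P.Cotangent = Module.finrank (IsLocalRing.ResidueField R) (IsLocalRing.CotangentSpace R)
      from by rw [Module.finrank, Module.finrank, hrk], h1', htr, Cardinal.toNat_natCast,
      show q.height = _ from PrimeSpectrum.height_eq_orderHeight ⟨q, inferInstance⟩]
    exact h2
  -- the cotangent space
  let b := (KaehlerDifferential.mvPolynomialBasis K (Fin n)).baseChange R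
  let b' := b.map (KaehlerDifferential.tensorKaehlerEquivOfFormallyEtale K (MvPolynomial (Fin n) K) R)
  let bL : Module.Basis (Fin n) L P.CotangentSpace := b'.baseChange L
  haveI : Module.Finite L P.CotangentSpace := Module.Finite.of_basis bL
  have hsp : Module.finrank L P.CotangentSpace = n := by
    rw [Module.finrank_eq_card_basis bL, Fintype.card_fin]
  haveI hΩ : Module.Finite L Ω[L⁄K] := Module.Finite.of_surjective P.toKaehler P.toKaehler_surjective
  let e1 := P.equivH1CotangentOfFormallySmooth
  haveI : Module.Finite L P.H1Cotangent :=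
    Module.Finite.of_injective Algebra.Extension.h1Cotangentι Algebra.Extension.h1Cotangentι_injective
  refine ⟨hΩ, Module.Finite.equiv e1, ?_⟩
  rw [← e1.finrank_eq]
  have r1 := P.cotangentComplex.finrank_range_add_finrank_ker
  have r2 := P.toKaehler.finrank_range_add_finrank_ker
  rw [LinearMap.range_eq_top.mpr P.toKaehler_surjective, finrank_top,
    P.exact_cotangentComplex_toKaehler.linearMap_ker_eq, hsp] at r2
  have r3 : Module.finrank L (LinearMap.ker P.cotangentComplex) = Module.finrank L P.H1Cotangent := rfl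
  have hd : Module.finrank L P.Cotangent + Cardinal.toNat (Algebra.trdeg K L) = n := by exact_mod_cast hdim
  omega

/-- The imperfection module is the image of the connecting map. -/
theorem imperfection_eq_range (k K L : Type u) [CommRing k] [CommRing K] [CommRing L] [Algebra k K] [Algebra K L]
    [Algebra k L] [IsScalarTower k K L] :
    EGA41.imperfection k K L = LinearMap.range (Algebra.H1Cotangent.δ k K L) :=
  (Algebra.H1Cotangent.exact_δ_mapBaseChange k K L).linearMap_ker_eq

end Groth.Agent.CartierEq3
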