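import Groth.Agent.Lib.CartierEq3.Basic
import Mathlib.FieldTheory.Perfect
import Mathlib.Algebra.CharP.Algebra

/-!
Cartier's equality and inequality for imperfection modules.
-/

set_option autoImplicit false
set_option linter.style.haveILetI false

universe u

open TensorProduct KaehlerDifferential

namespace Groth.Agent.CartierEq3

theorem imperfection_ineq (k K L : Type u) [CommRing k] [Field K] [Field L] [Algebra k K] [Algebra K L]
    [Algebra k L] [IsScalarTower k K L] [Algebra.EssFiniteType K L] :
    Module.Finite L Ω[L⁄K] ∧ Module.Finite L (EGA41.imperfection k K L) ∧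
      (Cardinal.toNat (Algebra.trdeg K L) : ℤ) ≤
        (Module.finrank L Ω[L⁄K] : ℤ) - Module.finrank L (EGA41.imperfection k K L) := by
  obtain ⟨h1, h2, h3⟩ := h1_kaehler K L
  haveI := h2
  rw [imperfection_eq_range k K L]
  refine ⟨h1, Module.Finite.range _, ?_⟩
  have := LinearMap.finrank_range_le (Algebra.H1Cotangent.δ k K L)
  omega

theorem subsingleton_kaehler_bot (K : Type u) [Field K] : Subsingleton Ω[(⊥ : Subfield K)⁄ℤ] := by
  let P : Subfield K := ⊥
  have h : ∀ x : P, KaehlerDifferential.D ℤ P x = 0 := by
    let d := KaehlerDifferential.D ℤ P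
    let S : Subfield P :=
      { carrier := {x | d x = 0}
        mul_mem' := fun {x y} hx hy => by
          show d (x * y) = 0
          rw [Derivation.leibniz, show d x = 0 from hx, show d y = 0 from hy, smul_zero, smul_zero, add_zero]
        one_mem' := d.map_one_eq_zero
        add_mem' := fun {x y} hx hy => by
          show d (x + y) = 0
          rw [map_add, show d x = 0 from hx, show d y = 0 from hy, add_zero]
        zero_mem' := map_zero d
        neg_mem' := fun {x} hx => by
          show d (-x) = 0
          rw [map_neg, show d x = 0 from hx, neg_zero]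
        inv_mem' := fun x hx => by
          show d x⁻¹ = 0
          rw [Derivation.leibniz_inv, show d x = 0 from hx, smul_zero] }
    intro x
    have hle : (⊥ : Subfield K) ≤ S.map P.subtype := bot_le
    obtain ⟨y, hy, hyx⟩ := hle x.2
    exact (Subtype.ext hyx : y = x) ▸ hy
  refine subsingleton_of_forall_eq 0 fun w => ?_
  have hw : w ∈ Submodule.span P (Set.range (KaehlerDifferential.D ℤ P)) := by
    rw [KaehlerDifferential.span_range_derivation]; trivial
  induction hw using Submodule.span_induction with
  | mem _ hx => obtain ⟨x, rfl⟩ := hx; exact h x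
  | zero => rfl
  | add a b _ _ ha hb => rw [ha, hb, add_zero]
  | smul c a _ ha => rw [ha, smul_zero]

theorem perfectField_bot (K : Type u) [Field K] : PerfectField (⊥ : Subfield K) := by
  let P : Subfield K := ⊥
  obtain ⟨p, hp⟩ := ExpChar.exists P
  cases hp with
  | zero => infer_instance
  | prime hpr =>
    rename_i hchar
    haveI := Fact.mk hpr
    haveI : ExpChar P p := ExpChar.prime hpr
    haveI : PerfectRing P p := by
      refine PerfectRing.ofSurjective P p fun x => ?_
      have hle : (⊥ : Subfield K) ≤ (frobenius P p).fieldRange.map P.subtype := bot_le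
      obtain ⟨y, ⟨z, hz⟩, hyx⟩ := hle x.2
      exact ⟨z, hz.trans (Subtype.ext hyx)⟩
    exact PerfectRing.toPerfectField P p

theorem finrank_imperfection_int (K L : Type u) [Field K] [Field L] [Algebra K L] [Algebra.EssFiniteType K L] :
    Module.Finite L (EGA41.imperfection ℤ K L) ∧
      Module.finrank L (EGA41.imperfection ℤ K L) = Module.finrank L (Algebra.H1Cotangent K L) := by
  let P : Subfield K := ⊥
  haveI := perfectField_bot K
  haveI := subsingleton_kaehler_bot K
  haveI : Algebra.FormallySmooth P L := Groth.Agent.FieldFS.formallySmooth_of_perfectField P L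
  haveI := (h1_kaehler K L).2.1
  have hbij : ∀ (M : Type u) [Field M] [Algebra P M],
      Function.Bijective (KaehlerDifferential.map ℤ P M M) := fun M _ _ => by
    refine ⟨(injective_iff_map_eq_zero _).mpr fun w hw => ?_, KaehlerDifferential.map_surjective ℤ P M⟩
    obtain ⟨v, rfl⟩ := (KaehlerDifferential.exact_mapBaseChange_map ℤ P M w).mp hw
    rw [Subsingleton.elim v 0, map_zero]
  let eK : L ⊗[K] Ω[K⁄ℤ] ≃ₗ[L] L ⊗[K] Ω[K⁄P] :=
    (LinearEquiv.ofBijective (KaehlerDifferential.map ℤ P K K) (hbij K)).baseChange K L _ _
  have hsq : ∀ z, KaehlerDifferential.mapBaseChange P K L (eK z) =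
      KaehlerDifferential.map ℤ P L L (KaehlerDifferential.mapBaseChange ℤ K L z) := by
    intro z
    induction z using TensorProduct.induction_on with
    | zero => simp only [map_zero]
    | add a b ha hb => simp only [map_add, ha, hb]
    | tmul c w =>
      show KaehlerDifferential.mapBaseChange P K L (c ⊗ₜ KaehlerDifferential.map ℤ P K K w) = _
      rw [KaehlerDifferential.mapBaseChange_tmul, KaehlerDifferential.mapBaseChange_tmul, map_smul]
      congr 1
      have hw : w ∈ Submodule.span K (Set.range (KaehlerDifferential.D ℤ K)) := by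
        rw [KaehlerDifferential.span_range_derivation]; trivial
      induction hw using Submodule.span_induction with
      | mem _ hx =>
        obtain ⟨x, rfl⟩ := hx
        simp [KaehlerDifferential.map_D]
      | zero => simp only [map_zero]
      | add a b _ _ ha hb => simp only [map_add, ha, hb]
      | smul a b _ hb =>
        rw [map_smul, map_smul, map_smul, LinearMap.map_smul_of_tower, hb]
  have hker : (EGA41.imperfection ℤ K L).map eK.toLinearMap = EGA41.imperfection P K L := by
    refine le_antisymm (Submodule.map_le_iff_le_comap.mpr fun z hz => ?_) fun z hz => ?_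
    · show KaehlerDifferential.mapBaseChange P K L (eK z) = 0
      rw [hsq, show KaehlerDifferential.mapBaseChange ℤ K L z = 0 from hz, map_zero]
    · refine ⟨eK.symm z, (hbij L).1 ?_, eK.apply_symm_apply z⟩
      rw [map_zero, ← hsq, eK.apply_symm_apply]
      exact hz
  let eU : EGA41.imperfection ℤ K L ≃ₗ[L] EGA41.imperfection P K L :=
    (eK.submoduleMap _).trans (LinearEquiv.ofEq _ _ hker)
  have hinj : Function.Injective (Algebra.H1Cotangent.δ P K L) := by
    refine (injective_iff_map_eq_zero _).mpr fun x hx => ?_
    obtain ⟨y, rfl⟩ := (Algebra.H1Cotangent.exact_map_δ P K L x).mp hx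
    rw [Subsingleton.elim y 0, map_zero]
  let eH : Algebra.H1Cotangent K L ≃ₗ[L] EGA41.imperfection P K L :=
    (LinearEquiv.ofInjective _ hinj).trans (LinearEquiv.ofEq _ _ (imperfection_eq_range P K L).symm)
  exact ⟨Module.Finite.equiv (eH.trans eU.symm), (eH.trans eU.symm).finrank_eq.symm⟩

theorem cartier_equality (K L : Type u) [Field K] [Field L] [Algebra K L] [Algebra.EssFiniteType K L] :
    Module.Finite L Ω[L⁄K] ∧ Module.Finite L (EGA41.imperfection ℤ K L) ∧
      (Module.finrank L Ω[L⁄K] : ℤ) - Module.finrank L (EGA41.imperfection ℤ K L) =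
        (Cardinal.toNat (Algebra.trdeg K L) : ℤ) := by
  obtain ⟨h1, h2, h3⟩ := h1_kaehler K L
  obtain ⟨h4, h5⟩ := finrank_imperfection_int K L
  exact ⟨h1, h4, by rw [h5]; exact h3⟩

end Groth.Agent.CartierEq3
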